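import Cfsg.Agent.Coset.Table
import Cfsg.Agent.HeldAmal.T0Data

/-! The checks of a coset table. -/

set_option autoImplicit false
set_option maxRecDepth 100000
set_option Elab.async false

namespace CfsgLib.HeldAmal.T0

open CfsgLib.Coset

theorem hR : checkRules rels subs R = true := by decide +kernel
theorem hdefs : checkDefs E 4 11 1356 = true := by decide +kernel
theorem hsteps : checkChunks E id R 4 5 1356 23 C = true := by decide +kernel
theorem htable : checkTable E id (1356 + chunk * 23) 1024 4 10 2 Rep Ref Tb = true := by decide +kernel

end CfsgLib.HeldAmal.T0
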