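import Cfsg.Agent.Coset.Blocks
import Cfsg.Agent.HeldAmal.T3Data
import Cfsg.Agent.HeldAmal.T3Chunks

/-! Steps of the coset table, two blocks. -/

set_option autoImplicit false
set_option maxRecDepth 100000
set_option Elab.async false

namespace CfsgLib.HeldAmal.T3

open CfsgLib.Coset

theorem hsteps2 : belowBlock 8 1270 (chunkAt E id R 7 34966 C) 2 = true := by decide +kernel
theorem hsteps3 : belowBlock 8 1270 (chunkAt E id R 7 34966 C) 3 = true := by decide +kernel

end CfsgLib.HeldAmal.T3
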