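import Cfsg.Agent.Coset.Blocks
import Cfsg.Agent.HeldAmal.T3Data

/-! Entries of the coset table, four blocks. -/

set_option autoImplicit false
set_option maxRecDepth 100000
set_option Elab.async false

namespace CfsgLib.HeldAmal.T3

open CfsgLib.Coset

theorem htable0 : belowBlock 12 29155 (tableAt E id (34966 + chunk * 1270) 29155 7 3 Rep Ref Tb) 0 = true := by decide +kernel
theorem htable1 : belowBlock 12 29155 (tableAt E id (34966 + chunk * 1270) 29155 7 3 Rep Ref Tb) 1 = true := by decide +kernel
theorem htable2 : belowBlock 12 29155 (tableAt E id (34966 + chunk * 1270) 29155 7 3 Rep Ref Tb) 2 = true := by decide +kernel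
theorem htable3 : belowBlock 12 29155 (tableAt E id (34966 + chunk * 1270) 29155 7 3 Rep Ref Tb) 3 = true := by decide +kernel

end CfsgLib.HeldAmal.T3
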