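import Mathlib.Tactic.IntervalCases
import Cfsg.Agent.HeldAmal.T3Steps0
import Cfsg.Agent.HeldAmal.T3Steps1
import Cfsg.Agent.HeldAmal.T3Steps2
import Cfsg.Agent.HeldAmal.T3Steps3
import Cfsg.Agent.HeldAmal.T3Table0
import Cfsg.Agent.HeldAmal.T3Table1

/-! The checks of the big coset table. -/

set_option autoImplicit false
set_option maxRecDepth 100000
set_option Elab.async false

namespace CfsgLib.HeldAmal.T3

open CfsgLib.Coset

theorem hR : checkRules rels subs R = true := by decide +kernel
theorem hdefs : checkDefs E 7 16 34966 = true := by decide +kernel
theorem hsteps : checkChunks E id R 7 (8 + 3) 34966 1270 C = true :=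
  checkChunks_of_blocks (by decide +kernel) fun b hb => by
    have : b < 8 := hb
    interval_cases b
    · exact hsteps0
    · exact hsteps1
    · exact hsteps2
    · exact hsteps3
    · exact hsteps4
    · exact hsteps5
    · exact hsteps6
    · exact hsteps7

theorem htable : checkTable E id (34966 + chunk * 1270) 29155 7 (12 + 3) 3 Rep Ref Tb = true :=
  checkTable_of_blocks (by decide +kernel) (by decide +kernel) fun b hb => by
    have : b < 8 := hb
    interval_cases b
    · exact htable0
    · exact htable1
    · exact htable2
    · exact htable3
    · exact htable4
    · exact htable5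
    · exact htable6
    · exact htable7

end CfsgLib.HeldAmal.T3
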