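import Cfsg.Agent.Coset.Chain
import Cfsg.Agent.HeldAmal.KillCData

/-! The checks of a coset table. -/

set_option autoImplicit false
set_option maxRecDepth 100000
set_option Elab.async false

namespace CfsgLib.HeldAmal.KillC

open CfsgLib.Coset

theorem hR : checkRules rels subs R = true := by decide +kernel
theorem hdefs : checkDefs E 7 14 12107 = true := by decide +kernel
theorem hsteps : checkChunks E id R 7 9 12107 405 C = true := by decide +kernel
theorem htable : checkTable E id (12107 + chunk * 405) 1771 7 11 3 Rep Ref Tb = true := by decide +kernel
theorem hperm : checkPerm id 1771 7 11 3 Tb = true := by decide +kernel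
theorem hrels : checkRels 1771 11 Tb rels = true := by decide +kernel
theorem htrans : checkTrans 1771 7 11 Tb Par = true := by decide +kernel
theorem hfix : checkFix Tb [0] fixWords = true := by decide +kernel

/-- The orbits of the point stabiliser. -/
noncomputable def certs : List OrbitCert := [⟨1, 90, P0, Inv0⟩, ⟨22, 1440, P1, Inv1⟩, ⟨139, 240, P2, Inv2⟩]

theorem horbits : checkOrbits Tb 11 fixWords certs = true := by decide +kernel
theorem hcover : checkCover 1771 11 certs = true := by decide +kernel

end CfsgLib.HeldAmal.KillC
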