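import Cfsg.Agent.HeldAmal.Five
import Cfsg.Agent.HeldAmal.KillAChecks
import Cfsg.Agent.HeldAmal.KillBChecks
import Cfsg.Agent.HeldAmal.KillCChecks
import Cfsg.Agent.Coset.Presented

/-! In a group of the order of the Held group the involution `g₆` satisfies `(g₄ g₆)^5 = 1`. -/

set_option autoImplicit false
set_option maxRecDepth 100000

namespace CfsgLib.HeldAmal

open CfsgLib.Coset
open CfsgLib.HeldUniq

variable {G : Type*} [Group G] {t : G} {F : Frame t} {g : G}

/-- The normalizer of the elementary subgroup. -/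
def normW (F : Frame t) : Subgroup G := Subgroup.normalizer (F.ev '' {w | w ∈ Mdl.w0List})

theorem mem_normW {x : G} (hx : x * x = 1)
    (h : ∀ w ∈ Mdl.w0List, ∃ v ∈ Mdl.w0List, x * F.ev w * x = F.ev v) : x ∈ normW F := by
  have hi : x⁻¹ = x := inv_eq_of_mul_eq_one_right hx
  intro n
  rw [hi]
  refine ⟨?_, ?_⟩
  · rintro ⟨w, hw, rfl⟩
    obtain ⟨v, hv, e⟩ := h w hw
    exact ⟨v, hv, e.symm⟩
  · rintro ⟨w, hw, e⟩
    obtain ⟨v, hv, e'⟩ := h w hw
    refine ⟨v, hv, ?_⟩
    rw [← e', e, mul_assoc x n x, ← mul_assoc, ← mul_assoc, hx, one_mul, mul_assoc, hx, mul_one]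

theorem norm_chk : (([17926390, 17926397, 18057704, 20027525, 17466651] : List Nat).all fun x =>
    Mdl.mem x && Nat.beq (Mdl.mulN x x) Mdl.one && Mdl.w0List.all fun w =>
      Mdl.w0List.contains (Mdl.conjN x w) && Nat.beq (Mdl.mulN x w) (Mdl.mulN (Mdl.conjN x w) x)) = true := by
  decide +kernel

theorem not_norm_chk : Mdl.w0List.contains 17926276 = true ∧
    Mdl.w0List.contains (Mdl.conjN 10572017 17926276) = false ∧ Mdl.mem 10572017 = true ∧
    Mdl.mem (Mdl.conjN 10572017 17926276) = true ∧
    Mdl.mulN 10572017 17926276 = Mdl.mulN (Mdl.conjN 10572017 17926276) 10572017 := by decide +kernel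

namespace Act

theorem model_mem_normW {x : Nat} (hx : x ∈ ([17926390, 17926397, 18057704, 20027525, 17466651] : List Nat)) :
    F.ev x ∈ normW F := by
  have h := List.all_eq_true.mp norm_chk x hx
  simp only [Bool.and_eq_true, Nat.beq_eq, List.all_eq_true, List.contains_iff_mem] at h
  obtain ⟨⟨hm, h2⟩, h3⟩ := h
  have hsq : F.ev x * F.ev x = 1 := by rw [← F.map_mul _ _ hm hm, h2, F.ev_one]
  refine mem_normW hsq fun w hw => ?_
  obtain ⟨hv, e⟩ := h3 w hw
  refine ⟨_, hv, ?_⟩
  have := F.conj_of hm (w0_facts hw).2.2.1 (w0_facts hv).2.2.1 e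
  rwa [inv_eq_of_mul_eq_one_right hsq] at this

theorem ev_mem_normW (A : Act F g) {w : List Nat} (hw : ∀ l ∈ w, l ∈ [0, 1, 2, 3, 4, 6]) :
    ev (stepGens F g) w ∈ normW F := by
  induction w with
  | nil => exact one_mem _
  | cons l w ih =>
    rw [ev_cons]
    refine mul_mem ?_ (ih fun x hx => hw x (List.mem_cons_of_mem _ hx))
    have hl := hw l List.mem_cons_self
    simp only [List.mem_cons, List.not_mem_nil, or_false] at hl
    rcases hl with rfl | rfl | rfl | rfl | rfl | rfl
    · exact model_mem_normW (x := 17926390) (by simp)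
    · exact model_mem_normW (x := 17926397) (by simp)
    · exact model_mem_normW (x := 18057704) (by simp)
    · exact model_mem_normW (x := 20027525) (by simp)
    · exact model_mem_normW (x := 17466651) (by simp)
    · rw [fl_top]
      exact mem_normW A.sq fun w hw => ⟨_, (w0_facts hw).1, A.conj_w hw⟩

theorem five_not_normW : fl (stepGens F g) 5 ∉ normW F := by
  intro h
  change F.ev 10572017 ∈ normW F at h
  obtain ⟨h1, h2, h3, h4, h5⟩ := not_norm_chk
  rw [List.contains_iff_mem] at h1
  obtain ⟨v, hv, e⟩ := (h (F.ev 17926276)).1 ⟨_, h1, rfl⟩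
  rw [F.conj_of h3 (w0_facts h1).2.2.1 h4 h5] at e
  rw [F.inj _ _ (w0_facts hv).2.2.1 h4 e, Set.mem_setOf_eq, ← List.contains_iff_mem, h2] at hv
  exact Bool.noConfusion hv

theorem ev_five (g : G) : ev (stepGens F g) fiveWord = (F.ev 17466651 * g) ^ 5 := by
  simp [fiveWord, pow_succ, mul_assoc, stepGens, codes, fl]

/-- Modified relators hold. -/
theorem rel_of_five (A : Act F g) {c : Nat} (hf : (F.ev 17466651 * g) ^ 5 = F.ev c) {ext : List Nat}
    (hx : ∀ l ∈ ext, l < 6) (hc : chk (ext.map fun l => codes.getD l 0) = true)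
    (he : Mdl.prodN (ext.map fun l => codes.getD l 0) = c) (hsq : Mdl.mulN c c = Mdl.one)
    {R : List (List Nat)}
    (hR : (R.all fun w => (rels.contains w && w != fiveWord) || w == fiveWord ++ ext) = true) :
    ∀ w ∈ R, ev (stepGens F g) w = 1 := by
  intro w hw
  have h := List.all_eq_true.mp hR w hw
  simp only [Bool.or_eq_true, Bool.and_eq_true, List.contains_iff_mem, bne_iff_ne, beq_iff_eq] at h
  rcases h with ⟨h1, h2⟩ | rfl
  · exact A.rel w h1 h2
  · rw [ev_append, ev_five, hf, ev_low F g ext hx, ← (ev_prodN F _ hc).2, he]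
    have hm : Mdl.mem c = true := he ▸ (ev_prodN F _ hc).1
    rw [← F.map_mul _ _ hm hm, hsq, F.ev_one]

theorem sq_fl (A : Act F g) (x : Nat) : fl (stepGens F g) x * fl (stepGens F g) x = 1 := by
  by_cases hx : x < 7
  · have h := A.rel [x, x] (by interval_cases x <;> decide) (by simp [fiveWord])
    simpa using h
  · rw [fl_of_le _ (by simp [stepGens, codes]; omega), one_mul]

theorem false_of_collapse (A : Act F g) {R : List (List Nat)} {S : List (List Nat)} {E Rep Tb : Nat → Nat}
    {T : Tr (List Nat × Nat)} {d d' N nC dn dk : Nat} {C Ref : Nat → Nat}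
    (hR : checkRules R S T = true) (hd : checkDefs E 7 d' N = true)
    (hs : checkChunks E id T 7 d N nC C = true)
    (ht : checkTable E id (N + chunk * nC) 1 7 dn dk Rep Ref Tb = true)
    (hrel : ∀ w ∈ R, ev (stepGens F g) w = 1)
    (hsub : ∀ w ∈ S, ∀ l ∈ w, l ∈ [0, 1, 2, 3, 4, 6]) : False := by
  have hl : (stepGens F g).length = 7 := rfl
  have tab : TableOK (stepGens F g) (normW F) E id 1 Rep Tb :=
    tableOK_of_check (fun x => (inv_eq_of_mul_eq_one_right (A.sq_fl x)).symm) hR (hl.symm ▸ hd)
      (hl.symm ▸ hs) (hl.symm ▸ ht) hrel fun w hw => A.ev_mem_normW (hsub w hw)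
  have hf : follow (tget Tb) 0 [5] = 0 := by
    have := tab.lt 0 Nat.one_pos 5 (by rw [hl]; decide)
    rw [follow_cons, follow_nil]
    omega
  exact five_not_normW (g := g) (by simpa using tab.ev_mem Nat.one_pos (w := [5]) (by simp [hl]) hf)

end Act

namespace KillC

/-- The presented group with the third relator. -/
abbrev P : Type := NumGr 7 rels

/-- Its generators. -/
noncomputable abbrev Lp : List P := numGens 7 rels

theorem len_Lp : (Lp).length = 7 := length_numGens

theorem inv_all (x : Nat) : fl Lp (id x) = (fl Lp x)⁻¹ := by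
  rw [id, inv_eq_of_mul_eq_one_right (sq_numGens (by decide +kernel) x)]

/-- The subgroup of index 1771. -/
noncomputable abbrev H : Subgroup P := genW Lp subs

theorem table : TableOK Lp H E id 1771 Rep Tb :=
  tableOK_of_check inv_all hR (len_Lp.symm ▸ hdefs) (len_Lp.symm ▸ hsteps) (len_Lp.symm ▸ htable)
    ev_numGens (fun _ hw => ev_mem_genW hw)

theorem perm_rels : ∀ w ∈ rels, ev (sigList hperm) w = 1 :=
  ev_sigList_eq_one hperm hrels (by decide +kernel)

/-- The action on 1771 points. -/
noncomputable def ρ : P →* Equiv.Perm (Fin 1771) := numHom (by simp [sigList]) perm_rels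

theorem matches_ρ : Matches Lp ρ Tb := by
  intro l hl i
  rw [ρ, numHom_fl, fl_sigList, sig_symm_apply hperm (len_Lp ▸ hl)]

theorem index_and_eq : H.index = 1771 ∧ H = pstab ρ ⟨0, by decide⟩ :=
  exact_index table matches_ρ (by decide) (len_Lp.symm ▸ htrans) closure_numGens
    (genW_le_pstab matches_ρ _ (by rw [len_Lp]; decide +kernel) (by decide +kernel))

theorem transitive (i : Fin 1771) : ∃ p, ρ p ⟨0, by decide⟩ = i :=
  (matches_ρ.transitive (by decide) (len_Lp.symm ▸ htrans) i).imp fun _ h => h.2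

theorem isCoatom_H : IsCoatom H := by
  rw [index_and_eq.2]
  refine pstab_isCoatom_of_orbits matches_ρ (by decide) horbits (by rw [len_Lp]; decide +kernel) hcover
    transitive (by decide +kernel) ?_ (by decide +kernel) (by decide +kernel)
  exact genW_le_pstab matches_ρ _ (by rw [len_Lp]; decide +kernel) hfix

end KillC

namespace Act

theorem false_of_large [Finite G] (A : Act F g) (hcard : Nat.card G = 4030387200)
    (hrel : ∀ w ∈ KillC.rels, ev (stepGens F g) w = 1) : False := by
  obtain ⟨f, hev⟩ : ∃ f : KillC.P →* G, ∀ w, f (ev KillC.Lp w) = ev (stepGens F g) w :=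
    ⟨numHom (k := 7) rfl hrel, numHom_ev rfl hrel⟩
  have hle : KillC.H ≤ (normW F).comap f := by
    refine (Subgroup.closure_le _).mpr ?_
    rintro _ ⟨w, hw, rfl⟩
    show f (ev KillC.Lp w) ∈ normW F
    rw [hev]
    refine A.ev_mem_normW ?_
    have h : ∀ w ∈ KillC.subs, ∀ l ∈ w, l ∈ [0, 1, 2, 3, 4, 6] := by decide +kernel
    exact h w hw
  rcases KillC.isCoatom_H.le_iff.mp hle with h | h
  · refine five_not_normW (g := g) (F := F) ?_
    have h5 : f (ev KillC.Lp [5]) ∈ normW F := by
      rw [← Subgroup.mem_comap, h]; exact Subgroup.mem_top _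
    rw [hev] at h5
    simpa using h5
  · have h1 : ((normW F).comap f).index = 1771 := by rw [h]; exact KillC.index_and_eq.1
    rw [Subgroup.index_comap] at h1
    have h2 : 1771 ∣ Nat.card G :=
      h1 ▸ (Subgroup.relIndex_dvd_card (H := normW F) (K := f.range)).trans (Subgroup.card_subgroup_dvd_card _)
    rw [hcard] at h2
    exact absurd h2 (by decide)

theorem five [Finite G] (A : Act F g) (hcard : Nat.card G = 4030387200) :
    (F.ev 17466651 * g) ^ 5 = 1 := by
  obtain ⟨c, hc, hm, hf⟩ := A.exists_five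
  simp only [fiveCodes, List.mem_cons, List.not_mem_nil, or_false] at hc
  rcases hc with rfl | rfl | rfl | rfl
  · rw [hf]; exact (F.eq_one_iff hm).2 (by decide)
  · exact (A.false_of_collapse KillA.hR KillA.hdefs KillA.hsteps KillA.htable
      (A.rel_of_five hf (ext := [0, 3, 2, 0, 2, 3]) (by decide) (by decide +kernel) (by decide +kernel)
        (by decide +kernel) (by decide +kernel)) (by decide +kernel)).elim
  · exact (A.false_of_collapse KillB.hR KillB.hdefs KillB.hsteps KillB.htable
      (A.rel_of_five hf (ext := [0, 3, 1, 3, 2, 3, 2]) (by decide) (by decide +kernel) (by decide +kernel)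
        (by decide +kernel) (by decide +kernel)) (by decide +kernel)).elim
  · exact (A.false_of_large hcard
      (A.rel_of_five hf (ext := [0, 2, 3, 2, 3, 1, 3]) (by decide) (by decide +kernel) (by decide +kernel)
        (by decide +kernel) (by decide +kernel))).elim

theorem ne_one (A : Act F g) : g ≠ 1 := by
  intro e
  have h := A.act 0 (by decide)
  rw [e, one_mul, mul_one] at h
  exact absurd (F.inj _ _ (by decide +kernel) (by decide +kernel) h) (by decide)

theorem iso_he [Finite G] (A : Act F g) (hcard : Nat.card G = 4030387200) :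
    Nonempty (G ≃* Cfsg.Spor.He) :=
  Step.iso_he (g := g) ⟨A, A.five hcard⟩ A.ne_one hcard

end Act

/-- A frame, an involution with the prescribed action and the order force the Held group. -/
theorem iso_he_of_act [Finite G] (F : Frame t) (g : G) (sq : g * g = 1)
    (act : ∀ i < 3, g * F.ev (actFrom.getD i Mdl.one) * g = F.ev (actTo.getD i Mdl.one))
    (cube : g * F.ev 20027623 * g * F.ev 20290207 * g * F.ev 18057705 = 1)
    (hcard : Nat.card G = 4030387200) : Nonempty (G ≃* Cfsg.Spor.He) :=
  (⟨sq, act, cube⟩ : Act F g).iso_he hcard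

end CfsgLib.HeldAmal
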