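import Cfsg.Agent.HeldAmal.CubeData
import Cfsg.Agent.HeldAmal.Kill

/-! The cube relation follows from the action on the centralizer of two involutions. -/

set_option autoImplicit false
set_option maxRecDepth 100000

namespace CfsgLib.HeldAmal

open CfsgLib.Coset
open CfsgLib.HeldUniq

variable {G : Type*} [Group G] {t : G} {F : Frame t} {g : G}

theorem conj_prod (sq : g * g = 1)
    (act : ∀ i < 3, g * F.ev (actFrom.getD i Mdl.one) * g = F.ev (actTo.getD i Mdl.one)) :
    ∀ ws : List Nat, (∀ i ∈ ws, i < 3) →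
    g * ((ws.map fun i => actFrom.getD i Mdl.one).map F.ev).prod * g =
      ((ws.map fun i => actTo.getD i Mdl.one).map F.ev).prod
  | [], _ => by simpa using sq
  | i :: ws, h => by
    simp only [List.map_cons, List.prod_cons]
    rw [← act i (h i List.mem_cons_self), ← conj_prod sq act ws fun x hx => h x (List.mem_cons_of_mem _ hx)]
    calc g * (F.ev (actFrom.getD i Mdl.one) * _) * g
        = g * F.ev (actFrom.getD i Mdl.one) * (1 : G) * ((ws.map fun i => actFrom.getD i Mdl.one).map F.ev).prod * g := by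
          simp only [mul_one, mul_assoc]
      _ = _ := by rw [← sq]; simp only [mul_assoc]

theorem theta_move (sq : g * g = 1)
    (act : ∀ i < 3, g * F.ev (actFrom.getD i Mdl.one) * g = F.ev (actTo.getD i Mdl.one))
    {w : Nat} (h : thetaOk w = true) :
    Mdl.mem w = true ∧ Mdl.mem (thetaN w) = true ∧
      g * F.ev 20027623 * F.ev w = F.ev (thetaN w) * (g * F.ev 20027623) := by
  simp only [thetaOk, Bool.and_eq_true, List.any_eq_true, Nat.beq_eq] at h
  obtain ⟨⟨⟨⟨⟨e, he, hec⟩, hw⟩, hc⟩, hi⟩, hm⟩ := h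
  have hk := List.all_eq_true.mp cubeTab_ok e he
  simp only [Bool.and_eq_true, List.all_eq_true, decide_eq_true_eq, Nat.beq_eq] at hk
  obtain ⟨⟨⟨⟨k1, k2⟩, k3⟩, k4⟩, k5⟩ := hk
  have hconj : g * F.ev e.1 * g = F.ev (imgN e.1) := by
    conv_lhs => rw [← k3]
    rw [(ev_prodN F _ k2).2, conj_prod sq act _ k1, ← (ev_prodN F _ k4).2, k5]
  have hg : g * F.ev e.1 = F.ev (imgN e.1) * g := by
    rw [← hconj, mul_assoc (g * F.ev e.1), sq, mul_one]
  have h6 : Mdl.mem 20027623 = true := cube_vals.2.2.2.2.2.1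
  refine ⟨hw, hi, ?_⟩
  rw [mul_assoc, ← F.map_mul _ _ h6 hw, hm, F.map_mul _ _ hc h6, ← mul_assoc, ← hec, hg, mul_assoc]
  rw [thetaN, hec]

/-- The cube relation. -/
theorem cube_of_act (sq : g * g = 1)
    (act : ∀ i < 3, g * F.ev (actFrom.getD i Mdl.one) * g = F.ev (actTo.getD i Mdl.one)) :
    g * F.ev 20027623 * g * F.ev 20290207 * g * F.ev 18057705 = 1 := by
  obtain ⟨v1, v2, v3, v4, v5, v6, v7, v8, v9, v10, v11⟩ := cube_vals
  set h := g * F.ev 20027623 with hh
  have mv : ∀ w, thetaOk w = true → h * F.ev w = F.ev (thetaN w) * h := fun w hw => (theta_move sq act hw).2.2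
  obtain ⟨o1, o2⟩ := thetaOk_chk
  rw [List.all_eq_true] at o1 o2
  have cube3 : ∀ w ∈ actFrom ++ [17926280, 17926336],
      Mdl.mem w = true ∧ Mdl.mem (thetaN (thetaN (thetaN w))) = true ∧
      h ^ 3 * F.ev w = F.ev (thetaN (thetaN (thetaN w))) * h ^ 3 := by
    intro w hw
    have a1 := o1 w (by simp only [List.mem_append, List.mem_cons, List.not_mem_nil, or_false] at hw ⊢; tauto)
    obtain ⟨a2, a3⟩ := Bool.and_eq_true .. |>.mp (o2 w hw)
    refine ⟨(theta_move sq act a1).1, (theta_move sq act a3).2.1, ?_⟩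
    calc h ^ 3 * F.ev w = h * (h * (h * F.ev w)) := by simp only [pow_succ, pow_zero, one_mul, mul_assoc]
      _ = h * (h * F.ev (thetaN w)) * h := by rw [mv _ a1]; simp only [mul_assoc]
      _ = h * F.ev (thetaN (thetaN w)) * h * h := by rw [mv _ a2]; simp only [mul_assoc]
      _ = F.ev (thetaN (thetaN (thetaN w))) * h * h * h := by rw [mv _ a3]
      _ = _ := by simp only [pow_succ, pow_zero, one_mul, mul_assoc]
  obtain ⟨d, hd, hde⟩ := F.exists_code (g := h ^ 3) (by
    have e := (cube3 17926336 (by simp)).2.2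
    rwa [v2, ← v11, F.ev_t] at e)
  have hdc : d ∈ cubeCodes := by
    have hlt : ∀ x ∈ Mdl.slPairs, x.1 < 512 := fun x hx => (Mdl.pair_facts hx).2.2.1
    have hm := List.all_eq_true.mp cube_cent d ((Mdl.mem_codesOf hlt d).2 ((Mdl.mem_iff_pair d).1 hd))
    simp only [Bool.or_eq_true, Bool.not_eq_true', List.contains_iff_mem] at hm
    refine hm.resolve_left fun hf => ?_
    have hall : ((actFrom ++ [17926280]).all fun w =>
        Nat.beq (Mdl.mulN d w) (Mdl.mulN (thetaN (thetaN (thetaN w))) d)) = true := by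
      refine List.all_eq_true.mpr fun w hw => ?_
      obtain ⟨hw1, hw2, e⟩ := cube3 w (by
        simp only [List.mem_append, List.mem_cons, List.not_mem_nil, or_false] at hw ⊢; tauto)
      rw [← hde, ← F.map_mul _ _ hd hw1, ← F.map_mul _ _ hw2 hd] at e
      rw [Nat.beq_eq]
      exact F.inj _ _ (Mdl.mem_mulN hd hw1) (Mdl.mem_mulN hw2 hd) e
    rw [hall] at hf
    exact Bool.noConfusion hf
  have hdok : thetaOk d = true := o1 d (List.mem_append_right _ hdc)
  have hfix : thetaN d = d := by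
    refine F.inj _ _ (theta_move sq act hdok).2.1 hd (mul_right_cancel (b := h) ?_)
    rw [← mv d hdok, hde, ← pow_succ', ← pow_succ]
  have hd0 : d = 20027562 := by
    have := List.all_eq_true.mp v1 d hdc
    simpa [hfix] using this
  rw [hd0] at hde
  have hb : h * F.ev 18320308 = F.ev 18189032 * h := by
    rw [mv _ (o1 _ (by simp)), v3]
  rw [← v9, ← v10, F.map_mul _ _ v6 v7, F.map_mul _ _ v6 v8]
  calc g * F.ev 20027623 * g * (F.ev 20027623 * F.ev 18189032) * g * (F.ev 20027623 * F.ev 20159434)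
      = h * h * (F.ev 18189032 * h) * F.ev 20159434 := by simp only [hh, mul_assoc]
    _ = h ^ 3 * F.ev 18320308 * F.ev 20159434 := by rw [← hb]; simp only [pow_succ, pow_zero, one_mul, mul_assoc]
    _ = ([20027562, 18320308, 20159434].map F.ev).prod := by rw [hde.symm]; simp [mul_assoc]
    _ = 1 := prod_eq_one F v4 v5

set_option linter.unusedVariables false in
/-- An involution outside the centralizer with the prescribed action forces the Held group. -/
theorem iso_he_of_sq_act [Finite G] (F : Frame t) (g : G) (sq : g * g = 1)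
    (hgt : g * t * g⁻¹ = F.ev (Mdl.mk 0 1 0 Mdl.mone Mdl.mone))
    (hgx : g * F.ev (Mdl.mk 0 1 0 Mdl.mone Mdl.mone) * g⁻¹ = t)
    (act : ∀ i < 3, g * F.ev (actFrom.getD i Mdl.one) * g = F.ev (actTo.getD i Mdl.one))
    (hcard : Nat.card G = 4030387200) : Nonempty (G ≃* Cfsg.Spor.He) :=
  iso_he_of_act F g sq act (cube_of_act sq act) hcard

end CfsgLib.HeldAmal
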