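import Cfsg.Agent.HeldAmal.Step
import Cfsg.Agent.HeldUniq.FusionBasic

/-! The cube of `g₆` times an element of the centralizer: table and checks. -/

set_option autoImplicit false
set_option maxRecDepth 100000
set_option maxHeartbeats 0

namespace CfsgLib.HeldAmal

open CfsgLib.Coset
open CfsgLib.HeldUniq

/-- Some elements as words in the three generators, with their images. -/
def cubeTab : List (Nat × List Nat × Nat) := [(11784948, [0, 2, 0, 1, 2, 0], 11653330), (27351172, [2, 0, 1, 0, 0, 2, 0, 1], 27613616), (11916250, [1, 2, 0, 0, 2, 0, 2, 1, 2], 11784882), (27744898, [1, 2, 1, 2, 0], 27744956), (11784924, [1], 12046776), (27483068, [0, 1, 1, 2, 1, 0, 0, 2], 27744896), (10965894, [2, 0, 0, 2, 0, 2], 10571966), (26331304, [0, 2, 1, 1, 0, 2, 1, 1, 2], 26331274), (10571966, [0, 2, 1, 0, 1], 10965894), (17926336, [0, 0, 2, 1, 2, 1, 0, 1, 2, 1, 2], 17926280), (17926344, [0, 1, 0, 1], 17926344), (17926280, [0, 0, 2, 1, 2, 0, 0, 2, 1, 2], 17926336), (18057638, [2, 1, 1, 0, 2, 0, 1, 1], 18189032), (20027626,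 [0, 1, 1, 0, 2, 1], 20027554), (20027618, [1, 0, 2, 1, 2, 1, 0, 2], 20027618), (20027562, [2, 1, 2, 0, 1, 2], 20027562), (20027554, [1, 0, 0, 1, 2, 1], 20027626)]

/-- The image of an element of the table. -/
def imgN (w : Nat) : Nat := ((cubeTab.find? fun e => Nat.beq e.1 w).getD (0, [], 0)).2.2

/-- Conjugation by `g₆` times the first factor, where it is tabulated. -/
def thetaN (w : Nat) : Nat := imgN (Mdl.conjN 20027623 w)

/-- The elements inducing the cube. -/
def cubeCodes : List Nat := [20027626, 20027554, 20027562, 20027618]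

/-- An element whose conjugate is tabulated. -/
def thetaOk (w : Nat) : Bool :=
  let c := Mdl.conjN 20027623 w
  (cubeTab.any fun e => Nat.beq e.1 c) && Mdl.mem w && Mdl.mem c && Mdl.mem (imgN c) &&
    Nat.beq (Mdl.mulN 20027623 w) (Mdl.mulN c 20027623)

theorem cubeTab_ok : (cubeTab.all fun e =>
    (e.2.1.all fun i => decide (i < 3)) && chk (e.2.1.map fun i => actFrom.getD i Mdl.one) &&
    Nat.beq (Mdl.prodN (e.2.1.map fun i => actFrom.getD i Mdl.one)) e.1 &&
    chk (e.2.1.map fun i => actTo.getD i Mdl.one) &&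
    Nat.beq (Mdl.prodN (e.2.1.map fun i => actTo.getD i Mdl.one)) (imgN e.1)) = true := by decide +kernel

theorem thetaOk_chk : ((actFrom ++ [17926280, 17926336, 18320308] ++ cubeCodes).all fun w => thetaOk w) = true ∧
    ((actFrom ++ [17926280, 17926336]).all fun w => thetaOk (thetaN w) && thetaOk (thetaN (thetaN w))) = true := by
  decide +kernel

theorem cube_cent : ((Mdl.codesOf Mdl.slPairs).all fun c =>
    !((actFrom ++ [17926280]).all fun w => Nat.beq (Mdl.mulN c w) (Mdl.mulN (thetaN (thetaN (thetaN w))) c)) ||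
      cubeCodes.contains c) = true := by decide +kernel

theorem cube_vals : (cubeCodes.all fun c => !Nat.beq (thetaN c) c || Nat.beq c 20027562) = true ∧
    thetaN (thetaN (thetaN 17926336)) = 17926336 ∧ thetaN 18320308 = 18189032 ∧
    chk [20027562, 18320308, 20159434] = true ∧ Mdl.prodN [20027562, 18320308, 20159434] = Mdl.one ∧
    Mdl.mem 20027623 = true ∧ Mdl.mem 18189032 = true ∧ Mdl.mem 20159434 = true ∧
    Mdl.mulN 20027623 18189032 = 20290207 ∧ Mdl.mulN 20027623 20159434 = 18057705 ∧ Mdl.tN = 17926336 := by decide +kernel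

end CfsgLib.HeldAmal
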