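import Cfsg.Agent.HeldAmal.FiveData

/-! The fifth power of `g₄ g₆` is one of four elements of the elementary subgroup of order 64. -/

set_option autoImplicit false
set_option maxRecDepth 100000

namespace CfsgLib.HeldAmal

open CfsgLib.Coset
open CfsgLib.HeldUniq

variable {G : Type*} [Group G] {t : G} {F : Frame t} {g : G}

theorem w0_facts {w : Nat} (hw : w ∈ Mdl.w0List) :
    sigmaN w ∈ Mdl.w0List ∧ tauN w ∈ Mdl.w0List ∧ Mdl.mem w = true ∧ Mdl.mem (sigmaN w) = true ∧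
      Mdl.mem (tauN w) = true ∧ tauN (tauN (tauN (tauN (tauN w)))) = w ∧
      (tauN w = w → w ∈ fiveCodes) := by
  have h := List.all_eq_true.mp wTab_ok w hw
  simp only [Bool.and_eq_true, List.contains_iff_mem, Nat.beq_eq, Bool.or_eq_true] at h
  obtain ⟨⟨⟨⟨⟨⟨⟨⟨-, h6⟩, h7⟩, -⟩, h9⟩, h10⟩, h11⟩, h12⟩, h13⟩ := h
  refine ⟨h6, h7, h9, h10, h11, h12, fun e => ?_⟩
  simpa [e] using h13

namespace Act

theorem conj_w (A : Act F g) {w : Nat} (hw : w ∈ Mdl.w0List) :
    g * F.ev w * g = F.ev (sigmaN w) := by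
  have h := List.all_eq_true.mp wTab_ok w hw
  simp only [Bool.and_eq_true, List.all_eq_true, decide_eq_true_eq, Nat.beq_eq] at h
  obtain ⟨⟨⟨⟨⟨⟨⟨⟨⟨⟨⟨⟨h1, h2⟩, h3⟩, h4⟩, h5⟩, -⟩, -⟩, -⟩, -⟩, -⟩, -⟩, -⟩, -⟩ := h
  conv_lhs => rw [← h3]
  rw [(ev_prodN F _ h2).2, A.conj_word _ h1, ← (ev_prodN F _ h4).2, h5]

theorem g4_inv : (F.ev 17466651)⁻¹ = F.ev 17466651 := by
  refine inv_eq_of_mul_eq_one_right ?_
  rw [← F.map_mul _ _ g4_sq.1 g4_sq.1, g4_sq.2, F.ev_one]

/-- `g₄ g₆` permutes the elementary subgroup. -/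
theorem move_w (A : Act F g) {w : Nat} (hw : w ∈ Mdl.w0List) :
    F.ev 17466651 * g * F.ev w = F.ev (tauN w) * (F.ev 17466651 * g) := by
  obtain ⟨-, -, -, hs, ht, -⟩ := w0_facts hw
  have h := List.all_eq_true.mp wTab_ok w hw
  simp only [Bool.and_eq_true, Nat.beq_eq] at h
  have e : Mdl.mulN 17466651 (sigmaN w) = Mdl.mulN (tauN w) 17466651 := h.1.1.1.1.1.2
  have hg : g * F.ev w = F.ev (sigmaN w) * g := by
    rw [← A.conj_w hw, mul_assoc (g * F.ev w), A.sq, mul_one]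
  rw [mul_assoc, hg, ← mul_assoc, ← F.map_mul _ _ g4_sq.1 hs, e, F.map_mul _ _ ht g4_sq.1, mul_assoc]

/-- The fifth power of `g₄ g₆` is one of four elements. -/
theorem exists_five (A : Act F g) :
    ∃ c ∈ fiveCodes, Mdl.mem c = true ∧ (F.ev 17466651 * g) ^ 5 = F.ev c := by
  set h := F.ev 17466651 * g with hh
  have step : ∀ w ∈ Mdl.w0List, h ^ 5 * F.ev w = F.ev w * h ^ 5 := by
    intro w hw
    obtain ⟨-, t1, -⟩ := w0_facts hw
    obtain ⟨-, t2, -⟩ := w0_facts t1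
    obtain ⟨-, t3, -⟩ := w0_facts t2
    obtain ⟨-, t4, -⟩ := w0_facts t3
    obtain ⟨-, -, -, -, -, e5, -⟩ := w0_facts hw
    calc h ^ 5 * F.ev w = h * (h * (h * (h * (h * F.ev w)))) := by
          simp only [pow_succ, pow_zero, one_mul, mul_assoc]
      _ = h * (h * (h * (h * (F.ev (tauN w) * h)))) := by rw [A.move_w hw]
      _ = h * (h * (h * (h * F.ev (tauN w)))) * h := by simp only [mul_assoc]
      _ = h * (h * (h * (F.ev (tauN (tauN w)) * h))) * h := by rw [A.move_w t1]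
      _ = h * (h * (h * F.ev (tauN (tauN w)))) * h * h := by simp only [mul_assoc]
      _ = h * (h * (F.ev (tauN (tauN (tauN w))) * h)) * h * h := by rw [A.move_w t2]
      _ = h * (h * F.ev (tauN (tauN (tauN w)))) * h * h * h := by simp only [mul_assoc]
      _ = h * (F.ev (tauN (tauN (tauN (tauN w)))) * h) * h * h * h := by rw [A.move_w t3]
      _ = h * F.ev (tauN (tauN (tauN (tauN w)))) * h * h * h * h := by simp only [mul_assoc]
      _ = F.ev (tauN (tauN (tauN (tauN (tauN w))))) * h * h * h * h * h := by rw [A.move_w t4]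
      _ = _ := by rw [e5]; simp only [pow_succ, pow_zero, one_mul, mul_assoc]
  obtain ⟨c, hc, hce⟩ := F.exists_code (g := h ^ 5) (by rw [← F.ev_t]; exact step _ tN_w0)
  have hcw : c ∈ Mdl.w0List := by
    have hlt : ∀ x ∈ Mdl.slPairs, x.1 < 512 := fun x hx => (Mdl.pair_facts hx).2.2.1
    have hm := List.all_eq_true.mp cent_w0 c
      ((Mdl.mem_codesOf hlt c).2 ((Mdl.mem_iff_pair c).1 hc))
    simp only [Bool.or_eq_true, Bool.not_eq_true', List.contains_iff_mem] at hm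
    refine hm.resolve_left fun hf => ?_
    have hall : (wBasis.all fun b => Mdl.commN c b) = true := by
      refine List.all_eq_true.mpr fun b hb => ?_
      have hbw : b ∈ Mdl.w0List := by simpa using List.all_eq_true.mp wBasis_sub b hb
      rw [F.commN_iff hc (w0_facts hbw).2.2.1, hce]
      exact step b hbw
    rw [hall] at hf
    exact Bool.noConfusion hf
  refine ⟨c, (w0_facts hcw).2.2.2.2.2.2 ?_, hc, hce.symm⟩
  refine F.inj _ _ (w0_facts hcw).2.2.2.2.1 hc (mul_right_cancel (b := h) ?_)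
  rw [← A.move_w hcw, ← hh, hce, ← pow_succ', ← pow_succ]

end Act

end CfsgLib.HeldAmal
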