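import Cfsg.Agent.HeldAmal.Step
import Cfsg.Agent.HeldUniq.FusionBasic

/-! The action of `g₄ g₆` on the elementary subgroup of order 64: table and checks. -/

set_option autoImplicit false
set_option maxRecDepth 100000
set_option maxHeartbeats 0

namespace CfsgLib.HeldAmal

open CfsgLib.Coset
open CfsgLib.HeldUniq

/-- Each element of the elementary subgroup as a word in the three generators, with its image. -/
def wTab : List (Nat × List Nat × Nat) := [(17926272, [], 17926272), (17926276, [0, 1, 2, 1, 2, 0, 0], 18188928), (17926280, [0, 0, 2, 1, 2, 0, 0, 2, 1, 2], 17926336), (17926284, [0, 1, 0, 2, 1, 1, 2], 18188992), (17926288, [0, 1, 1, 0, 2, 0, 1, 2], 18189020), (17926292, [1, 0, 0, 2, 1, 0, 0, 2], 17926364), (17926296, [1, 2, 1, 0, 2, 0, 0, 1], 18188956), (17926300, [0, 0, 1, 2, 1, 0, 0, 2, 0, 1], 17926300), (17926336, [0, 0, 2, 1, 2, 1, 0, 1, 2, 1, 2], 17926280), (17926340, [2, 1, 2, 1], 18188936), (17926344, [0, 1, 0, 1], 17926344),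 (17926348, [0, 2, 1, 1, 2, 0, 1], 18189000), (17926352, [0, 1, 1, 2, 1, 0, 2, 0], 18189012), (17926356, [0, 1, 1, 0, 2, 0, 1, 1, 2, 1], 17926356), (17926360, [1, 0, 0, 1, 2, 0, 1, 2], 18188948), (17926364, [0, 2, 1, 0, 0, 2, 1, 0], 17926292), (18188928, [0, 0, 1, 2, 0, 0, 1, 2], 17926276), (18188932, [1, 2, 0, 1, 2, 0], 18188932), (18188936, [0, 0, 2, 0, 2, 1, 1, 2, 1, 2], 17926340), (18188940, [0, 0, 1, 2, 1, 0, 2, 1], 18188996), (18188944, [1, 1, 2, 0, 2, 0, 1], 18189016), (18188948, [0, 2, 0, 1, 2, 1], 17926360), (18188952, [2, 0, 0, 2, 1, 0, 1], 18188952), (18188956, [0, 1, 2, 0, 0, 1, 1, 2], 17926296), (18188992, [0, 2, 0, 0, 1, 2, 0, 1, 1, 0], 17926284), (18188996, [1, 0, 2, 0, 1, 1, 0, 2], 18188940), (18189000, [0, 0, 1, 2, 1, 0, 1, 1, 2], 17926348), (18189004, [0, 0, 2, 0, 1, 2, 1, 1], 18189004), (18189008, [0, 2, 0, 2], 18189008), (18189012, [0, 1, 2, 1, 0, 2], 17926352), (18189016, [0, 1, 2, 0, 0, 2, 1], 18188944), (18189020,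 [0, 2, 1, 1, 0, 0, 2, 1], 17926288), (20027520, [0, 1, 2, 0, 2, 1, 2, 1, 0], 20027592), (20027524, [0, 1, 1, 2, 1, 0, 0], 20290248), (20027528, [1, 2, 1, 2, 0, 2, 0, 1], 20027528), (20027532, [0, 2, 0, 1, 1, 2, 1, 2], 20290184), (20027536, [0, 0, 2, 0, 2, 1, 2, 1], 20290196), (20027540, [0, 1, 1, 2, 0, 2, 0, 1, 2], 20027540), (20027544, [1, 2, 0, 2, 1, 1, 0, 2, 1], 20290260), (20027548, [1, 0, 1, 2, 0], 20027604), (20027584, [0, 1, 2, 0, 0, 1, 2, 1, 2], 20027584), (20027588, [0, 1, 2, 0, 1, 2, 1, 2, 0], 20290240), (20027592, [0, 2, 0, 2, 1, 2, 1, 1], 20027520), (20027596, [0, 0, 1, 0, 2, 1, 0, 0], 20290176), (20027600, [0, 1, 2, 1, 2, 0, 2, 0], 20290204), (20027604, [0, 0, 2, 0], 20027548), (20027608, [1, 0, 1, 2, 0, 2, 1, 2, 1], 20290268), (20027612, [0, 0, 1, 2, 0, 0, 2, 1, 2], 20027612), (20290176, [1, 1, 0, 2, 0, 0, 1], 20027596), (20290180, [2, 0, 2, 0, 0, 2], 20290252), (20290184, [1, 1, 2, 0, 1, 2, 0, 2, 0], 20027532), (20290188,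 [0, 1, 2, 0, 2, 0, 1, 1, 2], 20290188), (20290192, [1, 0, 0, 2, 1, 2, 0, 0, 2], 20290192), (20290196, [2, 0, 1, 0, 2, 1, 2], 20027536), (20290200, [1, 2, 1, 1], 20290256), (20290204, [0, 0, 1, 0, 2, 1, 2, 0, 2], 20027600), (20290240, [2, 0, 2, 0, 0, 1, 2, 1], 20027588), (20290244, [2, 1, 2, 0, 2, 0, 0, 1], 20290244), (20290248, [0, 1, 0, 0, 2, 0, 0, 1], 20027524), (20290252, [2, 0, 2, 1, 0, 1, 2], 20290180), (20290256, [1, 2, 0, 1, 0], 20290200), (20290260, [0, 1, 1, 2, 1, 2, 0, 2], 20027544), (20290264, [0, 0, 2, 1, 2, 1, 0, 2, 1], 20290264), (20290268, [2, 1, 1, 2, 1, 2], 20027608)]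

/-- The image of an element of the elementary subgroup under the involution. -/
def sigmaN (w : Nat) : Nat := ((wTab.find? fun e => Nat.beq e.1 w).getD (0, [], 0)).2.2

/-- The word of an element of the elementary subgroup. -/
def wordN (w : Nat) : List Nat := ((wTab.find? fun e => Nat.beq e.1 w).getD (0, [], 0)).2.1

/-- The image under `g₄ g₆`. -/
def tauN (w : Nat) : Nat := Mdl.conjN 17466651 (sigmaN w)

/-- A basis of the elementary subgroup. -/
def wBasis : List Nat := [17926276, 17926280, 17926288, 17926336, 18188928, 20027520]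

/-- The possible fifth powers. -/
def fiveCodes : List Nat := [17926272, 17926300, 20290244, 20290264]

theorem wTab_ok : (Mdl.w0List.all fun w => let ws := wordN w
    (ws.all fun i => decide (i < 3)) && chk (ws.map fun i => actFrom.getD i Mdl.one) &&
    Nat.beq (Mdl.prodN (ws.map fun i => actFrom.getD i Mdl.one)) w &&
    chk (ws.map fun i => actTo.getD i Mdl.one) &&
    Nat.beq (Mdl.prodN (ws.map fun i => actTo.getD i Mdl.one)) (sigmaN w) &&
    Mdl.w0List.contains (sigmaN w) && Mdl.w0List.contains (tauN w) &&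
    Nat.beq (Mdl.mulN 17466651 (sigmaN w)) (Mdl.mulN (tauN w) 17466651) &&
    Mdl.mem w && Mdl.mem (sigmaN w) && Mdl.mem (tauN w) &&
    Nat.beq (tauN (tauN (tauN (tauN (tauN w))))) w &&
    (!Nat.beq (tauN w) w || fiveCodes.contains w)) = true := by decide +kernel

theorem cent_w0 : ((Mdl.codesOf Mdl.slPairs).all fun c =>
    !(wBasis.all fun b => Mdl.commN c b) || Mdl.w0List.contains c) = true := by decide +kernel

theorem wBasis_sub : (wBasis.all fun b => Mdl.w0List.contains b) = true := by decide +kernel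

theorem tN_w0 : Mdl.tN ∈ Mdl.w0List := by decide +kernel

theorem g4_sq : Mdl.mem 17466651 = true ∧ Mdl.mulN 17466651 17466651 = Mdl.one := by decide +kernel

end CfsgLib.HeldAmal
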