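import Cfsg.Agent.HeldAmal.Bound
import Cfsg.Agent.Coset.He.Order
import Cfsg.Agent.Coset.Presented

/-! Groups generated by seven involutions satisfying the amalgam relators are the Held group. -/

set_option autoImplicit false
set_option maxRecDepth 100000
set_option Elab.async false

namespace CfsgLib.HeldAmal

open CfsgLib.Coset

/-- The seven generators as words in the generators of the presented Held group. -/
def heWords : List (List Nat) := [[2, 1, 3, 2, 3, 2, 5, 3, 2, 3, 2, 5, 3, 2, 1, 0, 3, 2, 6], [0, 1, 0, 1, 4, 6], [2, 3, 4, 5, 3, 2, 1, 3, 2, 4, 3, 2, 3, 5, 3, 0, 2, 3, 2, 1, 5, 3], [1, 5, 3, 4, 6, 3, 2, 1, 5, 3, 4, 6, 3, 2, 5, 1, 3, 4, 6, 3, 2], [3, 2, 6, 3, 2, 1, 3, 2, 6, 5, 3, 4, 6, 3, 2, 1, 5, 3, 2, 3, 2, 6, 3, 4], [3, 2, 5, 3, 2, 1, 4, 3, 2, 3, 2, 3, 5, 3, 2, 1, 3, 2, 1, 4, 3, 2, 5, 3, 4], [0, 1, 6, 3, 2, 3, 4, 5, 3, 2, 1, 3, 2, 3, 2, 1, 2, 3, 2, 3, 4, 5, 3, 2, 1, 3, 4]]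

/-- The generators of the presented Held group as words in the seven. -/
def backWords : List (List Nat) := [[2, 1, 2, 5, 1, 5], [5, 1, 4, 1, 5], [0, 3, 0, 5, 2, 5, 3], [6, 4, 5, 6, 4, 5, 6, 2, 4, 6, 4, 0, 5, 2, 6, 4, 5, 6, 4, 2, 6, 3], [0, 1, 0, 1], [0, 1, 2, 0, 1, 2], [1, 3, 1, 3]]

/-- Substitute words for letters. -/
def subst (ws : List (List Nat)) (w : List Nat) : List Nat := (w.map fun l => ws.getD l []).flatten

theorem ev_subst {X : Type*} [Group X] (L : List X) (ws : List (List Nat)) (w : List Nat) :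
    ev (ws.map (ev L)) w = ev L (subst ws w) := by
  induction w with
  | nil => simp [subst]
  | cons l w ih =>
    rw [ev_cons, ih, subst, subst, List.map_cons, List.flatten_cons, ev_append]
    congr 1
    rw [fl, ← ev_nil L, List.getD_map]

theorem baseStab_he : baseStab He.ρ [(0 : Fin 2058), 1, 15, 34] = ⊥ := by
  have := He.card_le.1
  refine baseStab_eq_bot (N := 4030387200) (by decide) He.card_le.2 _ ?_
  have h3 := orbit_step He.matches_ρ (base := [(0 : Fin 2058), 1, 15]) (β := 34) (m := 4) (dm := 2)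
    (gens := He.Orb.B3G) (P := He.Orb.B3P) (Inv := He.Orb.B3Inv)
    (by decide +kernel) (by decide +kernel) (by decide +kernel)
    (le_refl (Nat.card (baseStab He.ρ [(0 : Fin 2058), 1, 15, 34])))
  have h2 := orbit_step He.matches_ρ (base := [(0 : Fin 2058), 1]) (β := 15) (m := 360) (dm := 9)
    (gens := He.Orb.B2G) (P := He.Orb.B2P) (Inv := He.Orb.B2Inv)
    (by decide +kernel) (by decide +kernel) (by decide +kernel) h3
  have h1 := orbit_step He.matches_ρ (base := [(0 : Fin 2058)]) (β := 1) (m := 1360) (dm := 11)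
    (gens := He.Orb.B1G) (P := He.Orb.B1P) (Inv := He.Orb.B1Inv)
    (by decide +kernel) (by decide +kernel) (by decide +kernel) h2
  have h0 := orbit_step He.matches_ρ (base := []) (β := 0) (m := 2058) (dm := 12)
    (gens := He.Orb.B0G) (P := He.Orb.B0P) (Inv := He.Orb.B0Inv)
    (by decide +kernel) (by decide +kernel) (by decide +kernel) h1
  simpa [← mul_assoc, baseStab] using h0

/-- Check of words fixing the base. -/
noncomputable def fixesBase (ws : List (List Nat)) : Bool :=
  allList (fun w => cond (checkLetters 7 [w])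
    (allList (fun b => Nat.beq (follow (tget He.Top.Tb) b w) b) [0, 1, 15, 34]) false) ws

theorem ev_eq_one_of_fixes {ws : List (List Nat)} (h : fixesBase ws = true) :
    ∀ w ∈ ws, ev He.Lg w = 1 := by
  intro w hw
  have h' := allList_iff.mp h w hw
  rw [cond_false_eq_true] at h'
  rw [← ev_nil He.Lg]
  refine He.matches_ρ.ev_eq_of_base baseStab_he (He.len_Lg.symm ▸ h'.1) rfl ?_
  rw [show ([(0 : Fin 2058), 1, 15, 34].map Fin.val) = [0, 1, 15, 34] from rfl]
  simpa only [follow_nil] using h'.2

/-- The seven elements of the presented Held group. -/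
noncomputable abbrev heGens : List Cfsg.Spor.He := heWords.map (ev He.Lg)

theorem rels_heGens : Rels heGens where
  len := by simp [heGens, heWords]
  rel := by
    have h : fixesBase (rels.map (subst heWords)) = true := by decide +kernel
    intro w hw
    rw [ev_subst]
    exact ev_eq_one_of_fixes h _ (List.mem_map.mpr ⟨w, hw, rfl⟩)

theorem closure_heGens : Subgroup.closure {x | x ∈ heGens} = ⊤ := by
  rw [eq_top_iff, ← He.closure_Lg, Subgroup.closure_le]
  intro x hx
  obtain ⟨l, hl, rfl⟩ := List.getElem_of_mem hx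
  rw [He.len_Lg] at hl
  have h : fixesBase ((List.range 7).map fun i => subst heWords (backWords.getD i []) ++ [i]) = true := by
    decide +kernel
  have h1 := ev_eq_one_of_fixes h _ (List.mem_map.mpr ⟨l, List.mem_range.mpr hl, rfl⟩)
  rw [ev_append, ← ev_subst] at h1
  simp only [ev_cons, ev_nil, mul_one] at h1
  have e : fl He.Lg l = ev heGens (backWords.getD l []) := by
    rw [eq_inv_of_mul_eq_one_right h1, inv_eq_of_mul_eq_one_right]
    have hsq := He.sq_all l
    have h2 := eq_inv_of_mul_eq_one_left h1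
    rw [h2, ← mul_inv_rev, hsq, inv_one]
  rw [fl, List.getD_eq_getElem _ _ (by rw [He.len_Lg]; exact hl)] at e
  rw [e]
  have key : ∀ w : List Nat, ev heGens w ∈ Subgroup.closure {x | x ∈ heGens} := by
    intro w
    induction w with
    | nil => exact one_mem _
    | cons a w ih => rw [ev_cons]; exact mul_mem (mem_closure_fl a) ih
  exact key _

theorem finite_num : Finite (NumGr 7 rels) ∧ Nat.card (NumGr 7 rels) ≤ 4030387200 :=
  (Rels.mk length_numGens ev_numGens).card_le closure_numGens

/-- The presented group is the Held group. -/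
theorem num_equiv_he : Nonempty (NumGr 7 rels ≃* Cfsg.Spor.He) := by
  have := finite_num.1
  have := He.card_le.1
  refine ⟨(numEquiv rels_heGens.len rels_heGens.rel ?_).trans
    ((MulEquiv.subgroupCongr closure_heGens).trans Subgroup.topEquiv)⟩
  rw [closure_heGens, Subgroup.card_top, He.card_and_injective.1]
  exact finite_num.2

variable {G : Type*} [Group G] {L : List G}

/-- A nontrivial group generated by seven elements satisfying the relators is the Held group. -/
theorem Rels.iso_he (h : Rels L) (hgen : Subgroup.closure {x | x ∈ L} = ⊤) [Nontrivial G] :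
    Nonempty (G ≃* Cfsg.Spor.He) := by
  obtain ⟨e⟩ := num_equiv_he
  haveI := He.isSimple
  haveI : Nontrivial (NumGr 7 rels) := e.toEquiv.nontrivial
  haveI : IsSimpleGroup (NumGr 7 rels) := IsSimpleGroup.isSimpleGroup_of_surjective e.symm.toMonoidHom e.symm.surjective
  let f := numHom (rels := rels) h.len h.rel
  have hs : Function.Surjective f := by
    rw [← MonoidHom.range_eq_top, range_numHom, hgen]
  have hi : Function.Injective f := by
    rw [← MonoidHom.ker_eq_bot_iff]
    refine (IsSimpleGroup.eq_bot_or_eq_top_of_normal f.ker inferInstance).resolve_right fun ht => ?_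
    obtain ⟨x, hx⟩ := exists_ne (1 : G)
    obtain ⟨p, rfl⟩ := hs x
    exact hx (MonoidHom.mem_ker.mp (ht ▸ Subgroup.mem_top p))
  exact ⟨(MulEquiv.ofBijective f ⟨hi, hs⟩).symm.trans e⟩

/-- Seven elements satisfying the relators, not all trivial, generate a copy of the Held group;
in a group of the same order they generate everything. -/
theorem Rels.iso_he_of_card [Finite G] (h : Rels L) (hne : ∃ x ∈ L, x ≠ 1)
    (hcard : Nat.card G = 4030387200) : Nonempty (G ≃* Cfsg.Spor.He) := by
  set H := Subgroup.closure {x | x ∈ L}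
  let L' : List H := L.attach.map fun x => ⟨x.1, Subgroup.subset_closure x.2⟩
  have hmap : L'.map H.subtype = L := by
    simp only [L', List.map_map]
    exact (List.attach_map_subtype_val L)
  have hev : ∀ w, H.subtype (ev L' w) = ev L w := by
    intro w
    have hfl : ∀ l, H.subtype (fl L' l) = fl L l := by
      intro l
      conv_rhs => rw [← hmap]
      rw [fl, fl, ← List.getD_map (f := H.subtype), map_one]
    induction w with
    | nil => simp
    | cons a w ih => rw [ev_cons, ev_cons, map_mul, ih, hfl]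
  have h' : Rels L' := ⟨by simp [L', h.len], fun w hw => H.subtype_injective (by
    rw [hev, h.rel w hw, map_one])⟩
  obtain ⟨x, hx, hx1⟩ := hne
  haveI : Nontrivial H := ⟨⟨x, Subgroup.subset_closure hx⟩, 1, fun e => hx1 (congrArg Subtype.val e)⟩
  have hgen : Subgroup.closure {x | x ∈ L'} = ⊤ := by
    refine Subgroup.map_injective H.subtype_injective ?_
    rw [MonoidHom.map_closure, ← MonoidHom.range_eq_map, Subgroup.range_subtype]
    congr 1
    ext y
    constructor
    · rintro ⟨z, hz, rfl⟩
      show H.subtype z ∈ L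
      rw [← hmap]
      exact List.mem_map.mpr ⟨z, hz, rfl⟩
    · intro hy
      have hy' : y ∈ L'.map H.subtype := by rw [hmap]; exact hy
      obtain ⟨z, hz, rfl⟩ := List.mem_map.mp hy'
      exact ⟨z, hz, rfl⟩
  obtain ⟨e⟩ := h'.iso_he hgen
  have hH : H = ⊤ := Subgroup.eq_top_of_card_eq H (by
    rw [Nat.card_congr e.toEquiv, He.card_and_injective.1, hcard])
  exact ⟨((MulEquiv.subgroupCongr hH).trans Subgroup.topEquiv).symm.trans e⟩

end CfsgLib.HeldAmal
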