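import Cfsg.Agent.HeldAmal.Iso
import Cfsg.Agent.HeldUniq.Model

/-! The relators from a frame of the involution centralizer and one involution outside it. -/

set_option autoImplicit false
set_option maxRecDepth 100000

namespace CfsgLib.HeldAmal

open CfsgLib.Coset
open CfsgLib.HeldUniq

/-- The model codes of the six generators of the centralizer. -/
def codes : List Nat := [17926390, 17926397, 18057704, 20027525, 17466651, 10572017]

/-- Generators of the centralizer of `t` and `x₂`. -/
def actFrom : List Nat := [27744900, 11784924, 26462632]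

/-- Their images under the involution `g₆`. -/
def actTo : List Nat := [27613620, 12046776, 26331336]

/-- All partial products are codes. -/
def chk : List Nat → Bool
  | [] => true
  | a :: l => Mdl.mem a && Mdl.mem (Mdl.mulN a (Mdl.prodN l)) && chk l

/-- An involution outside the centralizer acting as prescribed on the centralizer of two involutions. -/
structure Act {G : Type*} [Group G] {t : G} (F : Frame t) (g : G) : Prop where
  sq : g * g = 1
  act : ∀ i < 3, g * F.ev (actFrom.getD i Mdl.one) * g = F.ev (actTo.getD i Mdl.one)
  cube : g * F.ev 20027623 * g * F.ev 20290207 * g * F.ev 18057705 = 1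

/-- The hypotheses on the involution outside the centralizer. -/
structure Step {G : Type*} [Group G] {t : G} (F : Frame t) (g : G) : Prop extends Act F g where
  five : (F.ev 17466651 * g) ^ 5 = 1

/-- The relator `(g₄ g₆)^5`. -/
def fiveWord : List Nat := [4, 6, 4, 6, 4, 6, 4, 6, 4, 6]

variable {G : Type*} [Group G] {t : G} (F : Frame t)

theorem ev_one : F.ev Mdl.one = 1 := by
  have h := F.map_mul Mdl.one Mdl.one (by decide) (by decide)
  rw [show Mdl.mulN Mdl.one Mdl.one = Mdl.one from by decide] at h
  exact left_eq_mul.mp h

theorem ev_prodN : ∀ l : List Nat, chk l = true →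
    Mdl.mem (Mdl.prodN l) = true ∧ F.ev (Mdl.prodN l) = (l.map F.ev).prod
  | [], _ => ⟨by decide, by simpa [Mdl.prodN] using ev_one F⟩
  | a :: l, h => by
    simp only [chk, Bool.and_eq_true] at h
    obtain ⟨⟨ha, hal⟩, hl⟩ := h
    obtain ⟨hm, he⟩ := ev_prodN l hl
    refine ⟨hal, ?_⟩
    show F.ev (Mdl.mulN a (Mdl.prodN l)) = _
    rw [F.map_mul _ _ ha hm, he, List.map_cons, List.prod_cons]

theorem prod_eq {u v : List Nat} (hu : chk u = true) (hv : chk v = true) (h : Mdl.prodN u = Mdl.prodN v) :
    (u.map F.ev).prod = (v.map F.ev).prod := by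
  rw [← (ev_prodN F u hu).2, h, (ev_prodN F v hv).2]

theorem prod_eq_one {u : List Nat} (hu : chk u = true) (h : Mdl.prodN u = Mdl.one) :
    (u.map F.ev).prod = 1 := by
  rw [← (ev_prodN F u hu).2, h, ev_one]

/-- The seven elements. -/
def stepGens (g : G) : List G := codes.map F.ev ++ [g]

theorem ev_low (g : G) : ∀ w : List Nat, (∀ l ∈ w, l < 6) →
    ev (stepGens F g) w = ((w.map fun l => codes.getD l 0).map F.ev).prod
  | [], _ => rfl
  | l :: w, h => by
    rw [ev_cons, ev_low g w fun x hx => h x (List.mem_cons_of_mem _ hx)]
    have hl : l < 6 := h l List.mem_cons_self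
    simp only [List.map_cons, List.prod_cons]
    congr 1
    interval_cases l <;> rfl

theorem fl_top (g : G) : fl (stepGens F g) 6 = g := rfl

theorem ev_rot {X : Type*} [Group X] (L : List X) (i : Nat) (w : List Nat)
    (h : ev L (w.drop i ++ w.take i) = 1) : ev L w = 1 := by
  rw [← List.take_append_drop i w, ev_append]
  rw [ev_append] at h
  exact mul_eq_one_comm.mp h

namespace Act

variable {F} {g : G}

theorem conj_word (S : Act F g) : ∀ ws : List Nat, (∀ i ∈ ws, i < 3) →
    g * ((ws.map fun i => actFrom.getD i Mdl.one).map F.ev).prod * g =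
      ((ws.map fun i => actTo.getD i Mdl.one).map F.ev).prod
  | [], _ => by simpa using S.sq
  | i :: ws, h => by
    simp only [List.map_cons, List.prod_cons]
    rw [← S.act i (h i List.mem_cons_self), ← conj_word S ws fun x hx => h x (List.mem_cons_of_mem _ hx)]
    calc g * (F.ev (actFrom.getD i Mdl.one) * _) * g
        = g * F.ev (actFrom.getD i Mdl.one) * (1 : G) * ((ws.map fun i => actFrom.getD i Mdl.one).map F.ev).prod * g := by
          simp only [mul_one, mul_assoc]
      _ = _ := by rw [← S.sq]; simp only [mul_assoc]

theorem two (S : Act F g) (s₀ s₁ ws : List Nat) (h₀ : ∀ l ∈ s₀, l < 6) (h₁ : ∀ l ∈ s₁, l < 6)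
    (hw : ∀ i ∈ ws, i < 3) (hc₀ : chk (s₀.map fun l => codes.getD l 0) = true)
    (hcw : chk (ws.map fun i => actFrom.getD i Mdl.one) = true)
    (he : Mdl.prodN (s₀.map fun l => codes.getD l 0) = Mdl.prodN (ws.map fun i => actFrom.getD i Mdl.one))
    (hc₁ : chk ((ws.map fun i => actTo.getD i Mdl.one) ++ s₁.map fun l => codes.getD l 0) = true)
    (h1 : Mdl.prodN ((ws.map fun i => actTo.getD i Mdl.one) ++ s₁.map fun l => codes.getD l 0) = Mdl.one) :
    ev (stepGens F g) (6 :: s₀ ++ 6 :: s₁) = 1 := by
  rw [ev_append, ev_cons, ev_cons, fl_top, ev_low F g s₀ h₀, ev_low F g s₁ h₁, prod_eq F hc₀ hcw he,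
    ← mul_assoc, S.conj_word ws hw, ← List.prod_append, ← List.map_append]
  exact prod_eq_one F hc₁ h1

theorem low {r : List Nat} (hr : ∀ l ∈ r, l < 6) (hc : chk (r.map fun l => codes.getD l 0) = true)
    (h1 : Mdl.prodN (r.map fun l => codes.getD l 0) = Mdl.one) : ev (stepGens F g) r = 1 := by
  rw [ev_low F g r hr]
  exact prod_eq_one F hc h1

/-- Every amalgam relator other than `(g₄ g₆)^5` holds. -/
theorem rel (S : Act F g) : ∀ w ∈ rels, w ≠ fiveWord → ev (stepGens F g) w = 1 := by
    intro w hw hne
    simp only [rels, List.mem_cons, List.not_mem_nil, or_false] at hw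
    rcases hw with rfl | rfl | rfl | rfl | rfl | rfl | rfl | rfl | rfl | rfl | rfl | rfl | rfl | rfl | rfl | rfl | rfl | rfl | rfl | rfl | rfl | rfl | rfl | rfl | rfl | rfl | rfl | rfl
    · exact low (by decide) (by decide +kernel) (by decide +kernel)
    · exact low (by decide) (by decide +kernel) (by decide +kernel)
    · exact low (by decide) (by decide +kernel) (by decide +kernel)
    · exact low (by decide) (by decide +kernel) (by decide +kernel)
    · exact low (by decide) (by decide +kernel) (by decide +kernel)
    · exact low (by decide) (by decide +kernel) (by decide +kernel)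
    · simpa [fl_top] using S.sq
    · refine ev_rot _ 4 _ ?_
      exact S.two [1, 0, 3, 2] [3, 0, 1, 0] [0, 2, 1, 0, 1, 2, 0, 2, 1] (by decide) (by decide) (by decide) (by decide +kernel) (by decide +kernel)
        (by decide +kernel) (by decide +kernel) (by decide +kernel)
    · exact low (by decide) (by decide +kernel) (by decide +kernel)
    · exact low (by decide) (by decide +kernel) (by decide +kernel)
    · exact low (by decide) (by decide +kernel) (by decide +kernel)
    · exact absurd rfl hne
    · exact low (by decide) (by decide +kernel) (by decide +kernel)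
    · exact low (by decide) (by decide +kernel) (by decide +kernel)
    · refine ev_rot _ 2 _ ?_
      show ev (stepGens F g) (([6] ++ [3, 0]) ++ (([6] ++ [2, 3, 2]) ++ ([6] ++ [0, 2, 1]))) = 1
      simp only [ev_append, show ev (stepGens F g) [6] = g from mul_one g]
      rw [ev_low F g [3, 0] (by decide), ev_low F g [2, 3, 2] (by decide), ev_low F g [0, 2, 1] (by decide),
        ← (ev_prodN F (List.map (fun l => codes.getD l 0) [3, 0]) (by decide +kernel)).2,
        ← (ev_prodN F (List.map (fun l => codes.getD l 0) [2, 3, 2]) (by decide +kernel)).2,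
        ← (ev_prodN F (List.map (fun l => codes.getD l 0) [0, 2, 1]) (by decide +kernel)).2]
      rw [show Mdl.prodN (List.map (fun l => codes.getD l 0) [3, 0]) = 20027623 by decide +kernel,
        show Mdl.prodN (List.map (fun l => codes.getD l 0) [2, 3, 2]) = 20290207 by decide +kernel,
        show Mdl.prodN (List.map (fun l => codes.getD l 0) [0, 2, 1]) = 18057705 by decide +kernel]
      simpa [mul_assoc] using S.cube
    · exact low (by decide) (by decide +kernel) (by decide +kernel)
    · exact low (by decide) (by decide +kernel) (by decide +kernel)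
    · refine ev_rot _ 4 _ ?_
      exact S.two [3, 1] [1, 0, 2, 0, 2, 0, 3, 2] [2, 0, 1, 0, 2, 0, 0, 2] (by decide) (by decide) (by decide) (by decide +kernel) (by decide +kernel)
        (by decide +kernel) (by decide +kernel) (by decide +kernel)
    · exact low (by decide) (by decide +kernel) (by decide +kernel)
    · exact low (by decide) (by decide +kernel) (by decide +kernel)
    · exact low (by decide) (by decide +kernel) (by decide +kernel)
    · exact low (by decide) (by decide +kernel) (by decide +kernel)
    · exact low (by decide) (by decide +kernel) (by decide +kernel)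
    · refine ev_rot _ 2 _ ?_
      exact S.two [0, 1, 2, 3] [0, 1, 2, 0, 3, 0] [0, 0, 1, 2, 1, 0, 0, 1] (by decide) (by decide) (by decide) (by decide +kernel) (by decide +kernel)
        (by decide +kernel) (by decide +kernel) (by decide +kernel)
    · exact low (by decide) (by decide +kernel) (by decide +kernel)
    · refine ev_rot _ 4 _ ?_
      exact S.two [5, 1] [5, 3, 0, 3, 5, 2, 1, 5] [0, 0, 2, 1, 2, 0, 0, 2] (by decide) (by decide) (by decide) (by decide +kernel) (by decide +kernel)
        (by decide +kernel) (by decide +kernel) (by decide +kernel)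
    · exact low (by decide) (by decide +kernel) (by decide +kernel)
    · exact low (by decide) (by decide +kernel) (by decide +kernel)

end Act

namespace Step

variable {F} {g : G}

/-- The amalgam relators hold. -/
theorem rels_stepGens (S : Step F g) : Rels (stepGens F g) where
  len := rfl
  rel := by
    intro w hw
    by_cases h5 : w = fiveWord
    · subst h5
      have h := S.five
      simp only [pow_succ, pow_zero, one_mul, mul_assoc] at h
      simpa [fiveWord, fl_top, mul_assoc, stepGens, codes, fl] using h
    · exact S.toAct.rel w hw h5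

/-- A frame, such an involution and the order force the Held group. -/
theorem iso_he [Finite G] (S : Step F g) (hg : g ≠ 1) (hcard : Nat.card G = 4030387200) :
    Nonempty (G ≃* Cfsg.Spor.He) :=
  S.rels_stepGens.iso_he_of_card ⟨g, by simp [stepGens], hg⟩ hcard

end Step

end CfsgLib.HeldAmal
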